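import Mathlib
import Cfsg.Agent.S0205
import Cfsg.Agent.S4345
import Cfsg.Agent.H16.ZClass
import Cfsg.Agent.H16.Sharp3
import Cfsg.Agent.H16.RegNormal
import Cfsg.Agent.H10.Congr
import Cfsg.Agent.H10.Transv
import Cfsg.Agent.H3.Basic
/-! Groups with eighteen Sylow 17-subgroups. -/

set_option autoImplicit false
set_option linter.unusedSectionVars false
set_option linter.unusedVariables false

namespace Cfsg.Agent.Sy17
open Subgroup MulAction Cfsg.Agent.H16
open scoped MatrixGroups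

variable {H Ω : Type*} [Group H] [Finite H] [MulAction H Ω] [Finite Ω]

theorem z3_of [FaithfulSMul H Ω] [IsPretransitive H Ω] {p : ℕ} (hp : p.Prime) (hΩ : Nat.card Ω = p + 1) (a : Ω)
    (F : Subgroup H) (hF : Nat.card F = p) (hFa : ∀ u ∈ F, u • a = a)
    (hn : ∀ h : H, h • a = a → ∀ u ∈ F, h * u * h⁻¹ ∈ F) : Z3 H Ω := by
  have := Fact.mk hp
  have gen : ∀ u ∈ F, u ≠ 1 → ∀ v ∈ F, v ∈ zpowers u := fun u hu h1 v hv => by
    obtain ⟨k, hk⟩ := mem_zpowers_of_prime_card (G := F) hF (g := ⟨u, hu⟩) (g' := ⟨v, hv⟩)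
      (fun e => h1 (congrArg Subtype.val e))
    exact ⟨k, congrArg Subtype.val hk⟩
  obtain ⟨u, hu, u1⟩ := (bot_or_exists_ne_one F).resolve_left fun e => by
    rw [e, card_bot] at hF; exact hp.one_lt.ne hF
  obtain ⟨b₀, hb₀⟩ : ∃ b₀ : Ω, u • b₀ ≠ b₀ := by
    by_contra! hx
    exact u1 (eq_of_smul_eq_smul (α := Ω) fun x => by rw [hx, one_smul])
  have r0 : ∀ v ∈ F, v • b₀ = b₀ → v = 1 := fun v hv h => by
    by_contra h1
    exact hb₀ ((zpowers_le (H := stabilizer H b₀)).2 h (gen v hv h1 u hu))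
  have ab₀ : b₀ ≠ a := fun e => hb₀ (e ▸ hFa u hu)
  have o1 : orbit F b₀ = {a}ᶜ := by
    refine Set.eq_of_subset_of_ncard_le ?_ ?_
    · rintro _ ⟨v, rfl⟩ h
      exact ab₀ (smul_left_cancel v ((Set.mem_singleton_iff.1 h).trans (hFa v v.2).symm))
    · have h1 := Set.ncard_add_ncard_compl ({a} : Set Ω)
      have h2 : (orbit F b₀).ncard = p := by
        have e : stabilizer F b₀ = ⊥ := (eq_bot_iff_forall _).2 fun v h => Subtype.ext (r0 v.1 v.2 h)
        rw [← index_stabilizer, e, index_bot, hF]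
      rw [Set.ncard_singleton] at h1
      omega
  have t0 : ∀ b, b ≠ a → ∃ v ∈ F, v • b₀ = b := fun b hb => by
    obtain ⟨v, hv⟩ : b ∈ orbit F b₀ := o1 ▸ hb
    exact ⟨v, v.2, hv⟩
  have tr : ∀ b c, b ≠ a → c ≠ a → ∃ v ∈ F, v • b = c := fun b c hb hc => by
    obtain ⟨v, hv, rfl⟩ := t0 b hb
    obtain ⟨w, hw, rfl⟩ := t0 c hc
    exact ⟨w * v⁻¹, F.mul_mem hw (F.inv_mem hv), by simp [mul_smul]⟩
  have reg : ∀ b, b ≠ a → ∀ v ∈ F, v • b = b → v = 1 := fun b hb v hv h => by
    obtain ⟨w, hw, rfl⟩ := t0 b hb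
    have := r0 (w⁻¹ * v * w) (F.mul_mem (F.mul_mem (F.inv_mem hw) hv) hw) (by simp [mul_smul, h])
    rwa [mul_assoc, inv_mul_eq_one, eq_comm, mul_eq_right] at this
  have core : ∀ (g : H) b c, b ≠ a → c ≠ a → b ≠ c → g • a = a → g • b = b → g • c = c → g = 1 := by
    intro g b c hb hc hbc ga gb gc
    obtain ⟨v, hv, rfl⟩ := tr b c hb hc
    have v1 : v ≠ 1 := fun e => hbc (by rw [e, one_smul])
    have h1 := reg b hb (v⁻¹ * (g * v * g⁻¹)) (F.mul_mem (F.inv_mem hv) (hn g ga v hv)) (by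
      rw [mul_smul, mul_smul, mul_smul, inv_smul_eq_iff.2 gb.symm, gc, inv_smul_smul])
    have h2 : Commute g v := by
      rw [inv_mul_eq_one, eq_mul_inv_iff_mul_eq] at h1; exact h1.symm
    refine eq_of_smul_eq_smul (α := Ω) fun x => ?_
    rw [one_smul]
    by_cases hx : x = a
    · rw [hx, ga]
    obtain ⟨w, hw, rfl⟩ := tr b x hb hx
    obtain ⟨k, rfl⟩ := gen v hv v1 w hw
    rw [← mul_smul, (h2.zpow_right k).eq, mul_smul, gb]
  refine ⟨inferInstance, is_two_pretransitive_iff.2 fun {x y z w} hxy hzw => ?_, fun g x y z hxy hyz hxz gx gy gz => ?_⟩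
  · obtain ⟨g, hg⟩ := exists_smul_eq H x a
    obtain ⟨h, hh⟩ := exists_smul_eq H z a
    obtain ⟨v, hv, e⟩ := tr (g • y) (h • w) (fun e => hxy (smul_left_cancel g (hg.trans e.symm)))
      (fun e => hzw (smul_left_cancel h (hh.trans e.symm)))
    exact ⟨h⁻¹ * v * g, by rw [mul_smul, mul_smul, hg, hFa v hv, ← hh, inv_smul_smul],
      by rw [mul_smul, mul_smul, e, inv_smul_smul]⟩
  · obtain ⟨h, hh⟩ := exists_smul_eq H x a
    have := core (h * g * h⁻¹) (h • y) (h • z) (fun e => hxy (smul_left_cancel h (hh.trans e.symm)))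
      (fun e => hxz (smul_left_cancel h (hh.trans e.symm))) (fun e => hyz (smul_left_cancel h e))
      (by rw [← hh]; simp [mul_smul, gx]) (by simp [mul_smul, gy]) (by simp [mul_smul, gz])
    simpa using this

instance fact17 : Fact (Nat.Prime 17) := ⟨by norm_num⟩

theorem ord9 {F : Type*} [Field F] [Fintype F] (hF : Fintype.card F = 17) : ∃ t : PSL(2, F), orderOf t = 9 := by
  let A : SL(2, ZMod 17) := ⟨!![0, -1; 1, 7], by decide +kernel⟩
  have h1 : orderOf (H10.slQ (Fin 2) (ZMod 17) A) = 3 ^ (1 + 1) := by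
    refine orderOf_eq_prime_pow (fun h => ?_) ?_
    · rw [← map_pow, ← map_one (H10.slQ (Fin 2) (ZMod 17)), H10.slQ_eq_iff] at h
      obtain ⟨c, hc⟩ := h
      have h2 := congrFun (congrFun hc 0) 1
      have h3 : (A ^ 3 ^ 1).1 0 1 ≠ 0 := by decide +kernel
      exact h3 (by rw [h2]; simp)
    · rw [← map_pow, show A ^ 3 ^ (1 + 1) = 1 from by decide +kernel, map_one]
  have e := H10.pslCongr (n := Fin 2) (FiniteField.ringEquivOfCardEq (K := ZMod 17) (K' := F) (by rw [hF]; simp))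
  exact ⟨e _, by rw [e.orderOf_eq, h1]; rfl⟩

variable (hZ : Z3 H Ω) (hΩ : Nat.card Ω = 18)
include hZ hΩ

theorem zass : IsZassenhausGroup H Ω := by
  have : Nontrivial Ω := Finite.one_lt_card_iff_nontrivial.1 (by omega)
  have := hZ.trans
  have key : ∀ N : Subgroup H, N.Normal → IsPretransitive N Ω → ∃ a : Ω, stabilizer N a ≠ ⊥ := fun N hN ht => by
    obtain ⟨a⟩ : Nonempty Ω := inferInstance
    refine ⟨a, fun h => ?_⟩
    obtain ⟨-, r, hr, e⟩ := elemAb_of_two_trans hZ.two N h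
    obtain ⟨j, hj⟩ := card_eq_pow_of_exponent hr e
    rw [card_eq_of_regular a h, hΩ] at hj
    have h2 := (Nat.prime_dvd_prime_iff_eq Nat.prime_two hr).1
      (Nat.prime_two.dvd_of_dvd_pow (n := j) (by rw [← hj]; norm_num))
    have h3 := (Nat.prime_dvd_prime_iff_eq Nat.prime_three hr).1
      (Nat.prime_three.dvd_of_dvd_pow (n := j) (by rw [← hj]; norm_num))
    omega
  refine ⟨hZ.faith, hZ.two, hZ.fix3, ?_, key⟩
  by_contra! h
  obtain ⟨K, hK, -, ht, hr⟩ := exists_frob_kernel (G := H) (α := Ω) fun g a b hab ha hb => by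
    by_contra h1
    exact h g h1 a b hab ha hb
  obtain ⟨a, ha⟩ := key K hK ht
  exact ha (hr a)

theorem iso {F : Type*} [Field F] [Fintype F] (hF : Fintype.card F = 17) {a b : Ω} (hab : a ≠ b) :
    (Nat.card (St2 H a b) = 8 ∧ Nonempty (H ≃* PSL(2, F))) ∨
      (Nat.card (St2 H a b) = 16 ∧ Nonempty (H ≃* PGL(2, F))) := by
  have h3 : 3 ≤ Nat.card Ω := by omega
  have h1 := hZ.card_zker h3 a
  have : IsCyclic (zker H a) := isCyclic_of_prime_card (p := 17) (by omega)
  rcases zass_ab (zass hZ hΩ) hab inferInstance with h | ⟨h, K, _, _, h2, -, ⟨e⟩⟩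
  · obtain ⟨K, _, _, h2, ⟨e⟩⟩ := hZ.pgl_of_even_degree h3 hab h (by rw [hΩ]; decide) (p := 17) (f := 1)
      (by norm_num) odd_one (by rw [hΩ]; rfl)
    exact .inr ⟨by omega, ⟨e.trans (H10.pglCongr (FiniteField.ringEquivOfCardEq (by
      rw [hF, ← Nat.card_eq_fintype_card, h2]; rfl)))⟩⟩
  · exact .inl ⟨by omega, ⟨e.trans (H10.pslCongr (FiniteField.ringEquivOfCardEq (by
      rw [hF, ← Nat.card_eq_fintype_card]; omega)))⟩⟩

theorem n2 {a b : Ω} (hab : a ≠ b) (hk : Nat.card (St2 H a b) = 8 ∨ Nat.card (St2 H a b) = 16) :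
    Nat.card (Sylow 2 H) = 153 := by
  have hc := hZ.card_group (by omega) hab
  rw [hΩ] at hc
  have hp : IsPGroup 2 (St2 H a b) := by
    rcases hk with h | h
    exacts [.of_card (n := 3) h, .of_card (n := 4) h]
  obtain ⟨R, hR⟩ := hp.exists_le_sylow
  have h1 : (R : Subgroup H).index = 153 := by
    have a1 := R.not_dvd_index
    have a2 : (R : Subgroup H).index ∣ 2 * 153 := by
      have := (St2 H a b).index_mul_card
      have a3 : (St2 H a b).index = 306 := by rcases hk with h | h <;> rw [h] at this hc <;> omega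
      exact (index_dvd_of_le hR).trans (by rw [a3])
    have a3 := (Nat.Coprime.dvd_mul_left ((Nat.prime_two.coprime_iff_not_dvd.2 a1).symm)).1 a2
    obtain ⟨n, hn⟩ := R.isPGroup'.exists_card_eq
    have a4 : 153 ∣ (R : Subgroup H).index * Nat.card R := by
      rw [index_mul_card, hc]; exact Dvd.intro (2 * Nat.card (St2 H a b)) (by ring)
    rw [hn] at a4
    exact Nat.dvd_antisymm a3 ((Nat.Coprime.dvd_mul_right (Nat.Coprime.pow_right n (by norm_num))).1 a4)
  have h2 := (R : Subgroup H).index_mul_card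
  have h3 := ((St2 H a b).subgroupOf R).index_mul_card
  rw [Nat.card_congr (subgroupOfEquivOfLe hR).toEquiv] at h3
  have h4 : ((St2 H a b).subgroupOf R).index = 2 := by
    rw [h1] at h2
    rcases hk with h | h <;> rw [h] at h3 hc <;> omega
  have h5 : IsPGroup 2 (normalizer (R : Set H)) := fun y => by
    let φ : MulAut R := (R : Subgroup H).normalizerMonoidHom y
    have b1 := index_inf_le (H := (St2 H a b).subgroupOf R) (K := ((St2 H a b).subgroupOf R).comap φ.toMonoidHom)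
    rw [index_comap_of_surjective (f := φ.toMonoidHom) _ φ.surjective, h4] at b1
    obtain ⟨h, ⟨b2, b3⟩, b4⟩ := (bot_or_exists_ne_one ((St2 H a b).subgroupOf R ⊓
        ((St2 H a b).subgroupOf R).comap φ.toMonoidHom)).resolve_left fun e => by
      rw [e, index_bot, ← h3, h4] at b1; omega
    have b5 : y.1 * y.1 ∈ St2 H a b := by
      rcases hZ.pair_of_conj hab (g := y.1) (h := h.1) b2 (fun e => b4 (Subtype.ext e)) b3 with ⟨c, d⟩ | ⟨c, d⟩ <;>
        exact mem_St2.2 ⟨by rw [mul_smul, c]; assumption, by rw [mul_smul, d]; assumption⟩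
    obtain ⟨n, hn⟩ := hp ⟨_, b5⟩
    refine ⟨n + 1, Subtype.ext ?_⟩
    rw [pow_succ', coe_pow, pow_mul, pow_two]
    exact congrArg Subtype.val hn
  rw [R.card_eq_index_normalizer, R.3 h5 (le_normalizer (H := (R : Subgroup H))), h1]

theorem n3 {a b : Ω} (hab : a ≠ b) (hk : Nat.card (St2 H a b) = 8 ∨ Nat.card (St2 H a b) = 16)
    {s : H} (hs : orderOf s = 9) : 136 ≤ Nat.card (Sylow 3 H) := by
  have hc := hZ.card_group (by omega) hab
  have hst := hZ.card_stabilizer (by omega) hab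
  rw [hΩ] at hc hst
  have c9 : Nat.card (zpowers s) = 9 := by rw [Nat.card_zpowers, hs]
  let T : Sylow 3 H := (IsPGroup.of_card (n := 2) c9).toSylow (by
    have := (zpowers s).index_mul_card
    rw [c9] at this
    rcases hk with h | h <;> rw [h] at hc <;> omega)
  have nf : ∀ i : ℕ, (s ^ i) • a = a → 3 ∣ i := fun i hi => by
    have h1 : orderOf (s ^ i) ∣ Nat.card (stabilizer H a) := Subgroup.orderOf_dvd_natCard (stabilizer H a) hi
    have h2 : orderOf (s ^ i) ∣ 9 := hs ▸ orderOf_pow_dvd i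
    have h3 : orderOf (s ^ i) = 1 := Nat.eq_one_of_dvd_coprimes
      (by rcases hk with h | h <;> rw [hst, h] <;> norm_num) h1 h2
    exact (show 3 ∣ 9 by norm_num).trans (hs ▸ orderOf_dvd_of_pow_eq_one (orderOf_eq_one_iff.1 h3))
  have n1 : s • a ≠ a := fun h => absurd (nf 1 (by rwa [pow_one])) (by norm_num)
  have n2 : s • s • a ≠ a := fun h => absurd (nf 2 (by rwa [pow_two, mul_smul])) (by norm_num)
  have c1 : Nat.card (centralizer (zpowers s : Set H)) ≤ 18 := by
    have e : stabilizer (centralizer (zpowers s : Set H)) a = ⊥ := (eq_bot_iff_forall _).2 fun c hc => by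
      have h1 : s * c.1 = c.1 * s := c.2 s (mem_zpowers s)
      have h2 : c.1 • a = a := hc
      have h3 : c.1 • s • a = s • a := by rw [← mul_smul, ← h1, mul_smul, h2]
      refine Subtype.ext (hZ.fix3 c.1 a (s • a) (s • s • a) n1.symm (fun e => n1 (smul_left_cancel s e).symm)
        n2.symm h2 h3 (by rw [← mul_smul, ← h1, mul_smul, h3]))
    rw [← index_bot, ← e, index_stabilizer, ← hΩ]
    exact Set.ncard_le_card _
  have c2 : 9 ∣ Nat.card (centralizer (zpowers s : Set H)) :=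
    (dvd_of_eq c9.symm).trans (card_dvd_of_le (le_centralizer _))
  have c3 := (zpowers s).normalizerMonoidHom.ker.card_mul_index
  rw [index_ker, normalizerMonoidHom_ker, Nat.card_congr (subgroupOfEquivOfLe (centralizer_le_normalizer _)).toEquiv] at c3
  have c4 := card_subgroup_dvd_card (zpowers s).normalizerMonoidHom.range
  rw [IsCyclic.card_mulAut, c9, show Nat.totient 9 = 6 by decide] at c4
  have c5 := card_sylow_modEq_one 3 H
  have c6 := (normalizer (zpowers s : Set H)).index_mul_card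
  have c7 : Nat.card (Sylow 3 H) = (normalizer (zpowers s : Set H)).index := T.card_eq_index_normalizer
  rw [← c7, ← c3] at c6
  have c8 := Nat.card_pos (α := centralizer (zpowers s : Set H))
  have c10 := Nat.le_of_dvd (by norm_num) c4
  unfold Nat.ModEq at c5
  generalize Nat.card (zpowers s).normalizerMonoidHom.range = e at *
  generalize Nat.card (Sylow 3 H) = n at *
  have c11 : Nat.card (centralizer (zpowers s : Set H)) = 9 ∨ Nat.card (centralizer (zpowers s : Set H)) = 18 := by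
    omega
  rcases c11 with c | c <;> rw [c] at c6 <;> rcases hk with h | h <;> rw [h] at hc <;> interval_cases e <;> omega

theorem all {F : Type*} [Field F] [Fintype F] (hF : Fintype.card F = 17) :
    (Nonempty (H ≃* PSL(2, F)) ∨ Nonempty (H ≃* PGL(2, F))) ∧ Nat.card H ∣ 4896 ∧
      153 ≤ Nat.card (Sylow 2 H) ∧ 136 ≤ Nat.card (Sylow 3 H) := by
  have : Nontrivial Ω := Finite.one_lt_card_iff_nontrivial.1 (by omega)
  obtain ⟨a, b, hab⟩ := exists_pair_ne Ω
  have h := iso hZ hΩ hF hab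
  have hk := h.imp (·.1) (·.1)
  have hc := hZ.card_group (by omega) hab
  rw [hΩ] at hc
  obtain ⟨t, ht⟩ := ord9 hF
  obtain ⟨s, hs⟩ : ∃ s : H, orderOf s = 9 := by
    rcases h with ⟨-, ⟨e⟩⟩ | ⟨-, ⟨e⟩⟩
    · exact ⟨e.symm t, by rw [e.symm.orderOf_eq, ht]⟩
    · exact ⟨e.symm (H10.pslEquiv F t), by rw [e.symm.orderOf_eq, orderOf_coe, MulEquiv.orderOf_eq, ht]⟩
  exact ⟨h.imp (·.2) (·.2), by rcases hk with h | h <;> rw [hc, h] <;> norm_num, (n2 hZ hΩ hab hk).ge,
    n3 hZ hΩ hab hk hs⟩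

omit hZ hΩ
variable {G : Type*} [Group G] [Finite G]

theorem z3_syl (h : Nat.card (Sylow 17 G) = 18) : Z3 (toPermHom G (Sylow 17 G)).range (Sylow 17 G) := by
  obtain ⟨P⟩ : Nonempty (Sylow 17 G) := inferInstance
  let π := (toPermHom G (Sylow 17 G)).rangeRestrict
  have hπ : ∀ (g : G) (Q : Sylow 17 G), π g • Q = g • Q := fun _ _ => rfl
  have : IsPretransitive (toPermHom G (Sylow 17 G)).range (Sylow 17 G) := ⟨fun x y => by
    obtain ⟨g, hg⟩ := exists_smul_eq G x y
    exact ⟨π g, hg⟩⟩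
  refine z3_of (p := 17) (by norm_num) h P ((P : Subgroup G).map π) ?_ ?_ fun g hg => ?_
  · obtain ⟨n, hn⟩ := (P.isPGroup'.map π).exists_card_eq
    have h1 := (card_subgroup_dvd_card ((P : Subgroup G).map π)).trans (card_subgroup_dvd_card _)
    rw [Nat.card_perm, h, hn] at h1
    rcases n with _ | _ | n
    · have : Nontrivial (Sylow 17 G) := Finite.one_lt_card_iff_nontrivial.1 (by omega)
      obtain ⟨Q, hQ⟩ := exists_ne P
      refine absurd (Sylow.ext (P.3 Q.2 (P.2.sylow_mem_fixedPoints_iff.1 fun u => ?_))) hQ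
      have h2 : π u ∈ (P : Subgroup G).map π := mem_map_of_mem _ u.2
      rw [card_eq_one.1 hn, mem_bot] at h2
      exact (hπ u Q).symm.trans (by rw [h2, one_smul])
    · exact hn
    · exact absurd ((pow_dvd_pow 17 (show 2 ≤ n + 1 + 1 by omega)).trans h1) (by decide)
  · rintro _ ⟨u, hu, rfl⟩
    exact Sylow.smul_eq_iff_mem_normalizer.2 (le_normalizer (H := (P : Subgroup G)) hu)
  · obtain ⟨g, rfl⟩ := (toPermHom G (Sylow 17 G)).rangeRestrict_surjective g
    rintro _ ⟨u, hu, rfl⟩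
    exact ⟨g * u * g⁻¹, (mem_normalizer_iff.1 (Sylow.smul_eq_iff_mem_normalizer.1 hg) u).1 hu, by simp [π]⟩

theorem ker_norm {K : Type*} [Group K] (f : G →* K) (hf : Function.Surjective f) (p : ℕ) [Fact p.Prime]
    (h : Nat.card (Sylow p G) ≤ Nat.card (Sylow p K)) (R : Sylow p G) : f.ker ≤ normalizer (R : Set G) := fun k hk => by
  have h1 := ((Sylow.mapSurjective_surjective hf p).bijective_of_nat_card_le h).1
  refine Sylow.smul_eq_iff_mem_normalizer.1 (h1 (Sylow.ext ?_))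
  change ((R : Subgroup G).map (MulAut.conj k).toMonoidHom).map f = (R : Subgroup G).map f
  rw [map_map]
  congr 1
  ext x
  simp [show f k = 1 from hk]

theorem card_syl_le {p : ℕ} [Fact p.Prime] (K : Subgroup G) (h : ∀ R : Sylow p G, (R : Subgroup G) ≤ K) :
    Nat.card (Sylow p K) = Nat.card (Sylow p G) :=
  (Nat.card_congr (Equiv.ofBijective (fun R => R.subtype (h R)) ⟨fun _ _ e => Sylow.subtype_injective e, fun S => by
    obtain ⟨Q, hQ⟩ := S.exists_comap_subtype_eq
    exact ⟨Q, Sylow.ext hQ⟩⟩)).symm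

theorem eq_bot_of_norm (hZ : center G = ⊥) (K : Subgroup G) [hK : K.Normal]
    (h : ∀ p : ℕ, p.Prime → p ∣ Nat.card G → ∀ R : Sylow p G, K ≤ normalizer (R : Set G)) : K = ⊥ := by
  by_contra h1
  obtain ⟨r, hr, h2⟩ := Nat.exists_prime_and_dvd (mt card_eq_one.1 h1)
  have := Fact.mk hr
  have h3 := h2.trans (card_subgroup_dvd_card K)
  obtain ⟨R⟩ : Nonempty (Sylow r G) := inferInstance
  have mem : ∀ x ∈ K, IsPGroup r (zpowers x) → x ∈ R := fun x hx hp =>
    ((hp.inf_normalizer_sylow R).le ⟨mem_zpowers x, h r hr h3 R hx⟩).2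
  obtain ⟨x, hx⟩ := exists_prime_orderOf_dvd_card' (G := K) r h2
  have hx1 : x.1 ≠ 1 := fun e => hr.one_lt.ne' (by rw [← hx, orderOf_eq_one_iff]; exact Subtype.ext e)
  have hxR := mem x x.2 (.of_card (n := 1) (by rw [Nat.card_zpowers, orderOf_coe, hx, pow_one]))
  have := R.isPGroup'.isNilpotent
  obtain ⟨z, ⟨z1, z2⟩, z3⟩ := (bot_or_exists_ne_one _).resolve_left
    (H3.normal_inf_center_ne_bot (K.subgroupOf R) fun e => hx1 (congrArg Subtype.val
      (mem_bot.1 (e.le (show (⟨x, hxR⟩ : R) ∈ K.subgroupOf R from x.2)))))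
  have hz : centralizer {z.1} = ⊤ := by
    by_contra h4
    obtain ⟨s, hs, h5⟩ := Nat.exists_prime_and_dvd (mt index_eq_one.1 h4)
    have := Fact.mk hs
    by_cases e : s = r
    · subst e
      exact R.not_dvd_index (h5.trans (index_dvd_of_le fun y hy => mem_centralizer_singleton_iff.2
        (congrArg Subtype.val (mem_center_iff.1 z2 ⟨y, hy⟩))))
    obtain ⟨S⟩ : Nonempty (Sylow s G) := inferInstance
    refine S.not_dvd_index (h5.trans (index_dvd_of_le fun y hy => mem_centralizer_singleton_iff.2 ?_))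
    have a1 : y * z.1 * y⁻¹ ∈ R := mem _ (hK.conj_mem _ z1 y) (by
      have := (R.isPGroup'.to_le ((zpowers_le (H := (R : Subgroup G))).2 z.2)).map (MulAut.conj y).toMonoidHom
      rwa [MonoidHom.map_zpowers] at this)
    have a2 : y * (z.1 * y⁻¹ * z.1⁻¹) ∈ (S : Subgroup G) := S.mul_mem hy ((mem_normalizer_iff.1
      (h s hs (h5.trans (index_dvd_card _)) S z1) _).1 (S.inv_mem hy))
    have a3 := (IsPGroup.disjoint_of_ne s r e _ _ S.isPGroup' R.isPGroup').le_bot
      ⟨a2, show _ ∈ (R : Subgroup G) by simpa only [mul_assoc] using R.mul_mem a1 (R.inv_mem z.2)⟩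
    rw [mem_bot, ← mul_assoc, ← mul_assoc, mul_inv_eq_one, mul_inv_eq_iff_eq_mul] at a3
    exact a3
  have : z.1 ∈ center G := mem_center_iff.2 fun g => mem_centralizer_singleton_iff.1 (hz ▸ mem_top g)
  rw [hZ, mem_bot] at this
  exact z3 (Subtype.ext this)

theorem main (hZ : center G = ⊥) (hNS : {c : ℕ | ∃ r : ℕ, r.Prime ∧ r ∣ Nat.card G ∧ c = Nat.card (Sylow r G)} =
    ({18, 136, 153} : Set ℕ)) {F : Type*} [Field F] [Fintype F] (hF : Fintype.card F = 17) :
    Nonempty (G ≃* PSL(2, F)) ∨ Nonempty (G ≃* PGL(2, F)) := by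
  have h1 : ∀ r : ℕ, r.Prime → r ∣ Nat.card G → (Nat.card (Sylow r G) = 18 ∧ r ∣ 17) ∨
      (Nat.card (Sylow r G) = 136 ∧ r ∣ 135) ∨ (Nat.card (Sylow r G) = 153 ∧ r ∣ 152) := fun r hr h => by
    have := Fact.mk hr
    have h2 := (card_sylow_modEq_one r G).symm
    have h3 : Nat.card (Sylow r G) ∈ ({18, 136, 153} : Set ℕ) := hNS ▸ ⟨r, hr, h, rfl⟩
    rcases h3 with e | e | e <;> rw [e, Nat.modEq_iff_dvd' (by norm_num)] at h2
    exacts [.inl ⟨e, h2⟩, .inr (.inl ⟨e, h2⟩), .inr (.inr ⟨e, h2⟩)]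
  obtain ⟨r, hr, h2, h3⟩ : 18 ∈ {c : ℕ | ∃ r : ℕ, r.Prime ∧ r ∣ Nat.card G ∧ c = Nat.card (Sylow r G)} :=
    hNS ▸ .inl rfl
  obtain rfl : r = 17 := by
    have := h1 r hr h2
    exact (Nat.prime_dvd_prime_iff_eq hr (by norm_num)).1 (by omega)
  obtain ⟨P⟩ : Nonempty (Sylow 17 G) := inferInstance
  have h4 : 18 ∣ Nat.card G := h3 ▸ P.card_dvd_index.trans (index_dvd_card _)
  have n2 : Nat.card (Sylow 2 G) = 153 := by have := h1 2 Nat.prime_two (by omega); omega
  have n3 : Nat.card (Sylow 3 G) = 136 := by have := h1 3 Nat.prime_three (by omega); omega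
  obtain ⟨a1, a2, a3, a4⟩ := all (z3_syl h3.symm) h3.symm hF
  let π := (toPermHom G (Sylow 17 G)).rangeRestrict
  have hπ : Function.Surjective π := (toPermHom G (Sylow 17 G)).rangeRestrict_surjective
  have k2 := ker_norm π hπ 2 (n2 ▸ a3)
  have k3 := ker_norm π hπ 3 (n3 ▸ a4)
  have k17 : ∀ R : Sylow 17 G, π.ker ≤ normalizer (R : Set G) := fun R k hk =>
    Sylow.smul_eq_iff_mem_normalizer.1 (DFunLike.congr_fun (congrArg Subtype.val hk) R)
  have hs : Group.IsSolvable π.ker := by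
    obtain ⟨S⟩ : Nonempty (Sylow 2 π.ker) := inferInstance
    obtain ⟨R, hR⟩ := S.exists_comap_subtype_eq
    have : (S : Subgroup π.ker).Normal := hR ▸ (normal_subgroupOf_iff_le_normalizer_inf.2
      ((le_inf (k2 R) le_normalizer).trans (inf_normalizer_le_normalizer_inf (H := (R : Subgroup G)))))
    have := S.isPGroup'.isNilpotent
    have := S0205.result (G := π.ker ⧸ (S : Subgroup π.ker)) (Nat.not_even_iff_odd.1 fun h =>
      S.not_dvd_index h.two_dvd)
    exact Group.isSolvable_of_ker_le_range (S : Subgroup π.ker).subtype (QuotientGroup.mk' (S : Subgroup π.ker)) (by simp)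
  have other : ∀ (r : ℕ) [Fact r.Prime], r.Coprime 4896 → ∀ l : ℕ, l.Prime →
      l ^ (Nat.card (Sylow r G)).factorization l ≡ 1 [MOD r] := fun r _ hc l hl => by
    rw [← card_syl_le π.ker fun R x hx => ?_]
    · exact S4345.result hs r l hl
    obtain ⟨n, hn⟩ := R.isPGroup' ⟨x, hx⟩
    refine orderOf_eq_one_iff.1 (Nat.eq_one_of_dvd_coprimes (Nat.Coprime.pow_left n hc) ?_
      ((_root_.orderOf_dvd_natCard _).trans a2))
    exact orderOf_dvd_of_pow_eq_one (by rw [← map_pow, show x ^ r ^ n = 1 from congrArg Subtype.val hn, map_one])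
  have hK : π.ker = ⊥ := eq_bot_of_norm hZ _ fun p hp hd R => by
    have := Fact.mk hp
    rcases h1 p hp hd with ⟨e, h⟩ | ⟨e, h⟩ | ⟨e, h⟩
    · obtain rfl := (Nat.prime_dvd_prime_iff_eq hp (by norm_num)).1 h
      exact k17 R
    · rcases (hp.dvd_mul (m := 3 ^ 3) (n := 5)).1 h with h | h
      · obtain rfl := (Nat.prime_dvd_prime_iff_eq hp Nat.prime_three).1 (hp.dvd_of_dvd_pow h)
        exact k3 R
      · obtain rfl := (Nat.prime_dvd_prime_iff_eq hp Nat.prime_five).1 h
        have := other 5 (by norm_num) 17 (by norm_num)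
        rw [e, show (136 : ℕ).factorization 17 = 1 from by
          rw [← Nat.primeFactorsList_count_eq]; simp [Nat.primeFactorsList_ofNat]] at this
        exact absurd this (by decide)
    · rcases (hp.dvd_mul (m := 2 ^ 3) (n := 19)).1 h with h | h
      · obtain rfl := (Nat.prime_dvd_prime_iff_eq hp Nat.prime_two).1 (hp.dvd_of_dvd_pow h)
        exact k2 R
      · obtain rfl := (Nat.prime_dvd_prime_iff_eq hp (by norm_num)).1 h
        have := other 19 (by norm_num) 17 (by norm_num)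
        rw [e, show (153 : ℕ).factorization 17 = 1 from by
          rw [← Nat.primeFactorsList_count_eq]; simp [Nat.primeFactorsList_ofNat]] at this
        exact absurd this (by decide)
  have e := MulEquiv.ofBijective π ⟨(MonoidHom.ker_eq_bot_iff π).1 hK, hπ⟩
  exact a1.imp (fun ⟨f⟩ => ⟨e.trans f⟩) fun ⟨f⟩ => ⟨e.trans f⟩

end Cfsg.Agent.Sy17
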